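import Cfsg.Agent.BlockChar.VanPSing.Van
import Cfsg.Agent.Coprime.SchurZassenhaus

/-!
# Vanishing `p`-singular elements of solvable groups
-/

namespace Cfsg.Agent.VanPSing

open scoped commutatorElement

universe u

variable {G : Type u} [Group G] [Finite G] {p : ℕ} [hp : Fact p.Prime]

/-- An abelian normal subgroup of order prime to `p`. -/
theorem exists_base [Group.IsSolvable G] (hO : Cfsg.pCore p G = ⊥) (hpd : p ∣ Nat.card G) :
    ∃ N : Subgroup G, N.Normal ∧ (∀ a ∈ N, ∀ b ∈ N, a * b = b * a) ∧ N ≠ ⊥ ∧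
      ¬ p ∣ Nat.card N := by
  have : Nontrivial G := Finite.one_lt_card_iff_nontrivial.1
    (lt_of_lt_of_le hp.out.one_lt (Nat.le_of_dvd Nat.card_pos hpd))
  obtain ⟨M, hMn, hMc, -, hMne⟩ :=
    Coprime.exists_minimal_normal_abelian (⊤ : Subgroup G) top_ne_bot inferInstance
  refine ⟨M, hMn, fun a ha b hb => congrArg Subtype.val (hMc.is_comm.comm ⟨a, ha⟩ ⟨b, hb⟩), hMne,
    fun h => ?_⟩
  obtain ⟨P⟩ : Nonempty (Sylow p M) := inferInstance
  have hPn : (P : Subgroup M).Normal := Subgroup.normal_of_comm _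
  have hPc := Sylow.characteristic_of_normal P hPn
  have hPGn : ((P : Subgroup M).map M.subtype).Normal := ConjAct.normal_of_characteristic_of_normal
  have h1 : (P : Subgroup M).map M.subtype ≤ ⊥ := hO ▸ Core.le_pCore (P.isPGroup'.map _)
  rw [le_bot_iff, Subgroup.map_eq_bot_iff_of_injective _ M.subtype_injective] at h1
  have h2 := P.dvd_card_of_dvd_card h
  rw [h1, Subgroup.card_bot] at h2
  exact hp.out.not_dvd_one h2

/-- The central section above `N`. -/
theorem exists_section (N : Subgroup G) [N.Normal] (hQ : Cfsg.pCore p (G ⧸ N) ≠ ⊥) :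
    ∃ Z : Subgroup (G ⧸ N), Z.Normal ∧ Z ≤ Cfsg.pCore p (G ⧸ N) ∧ IsPGroup p Z ∧ Z ≠ ⊥ ∧
      (∀ z ∈ Z, ∀ r ∈ Cfsg.pCore p (G ⧸ N), z * r = r * z) ∧
      ∀ z ∈ Cfsg.pCore p (G ⧸ N), (∀ r ∈ Cfsg.pCore p (G ⧸ N), r * z = z * r) → z ∈ Z := by
  set Q := Cfsg.pCore p (G ⧸ N)
  have hQp : IsPGroup p Q := Core.pCore_isPGroup
  have : Nontrivial Q := (Subgroup.nontrivial_iff_ne_bot Q).2 hQ
  have hc : Nontrivial (Subgroup.center Q) := hQp.center_nontrivial
  refine ⟨(Subgroup.center Q).map Q.subtype, ConjAct.normal_of_characteristic_of_normal,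
    Subgroup.map_subtype_le _, (hQp.to_subgroup _).map _, ?_, ?_, fun z hz h => ⟨⟨z, hz⟩,
      Subgroup.mem_center_iff.2 fun r => Subtype.ext (h r r.2), rfl⟩⟩
  · rw [Ne, Subgroup.map_eq_bot_iff_of_injective _ Q.subtype_injective]
    exact (Subgroup.nontrivial_iff_ne_bot _).1 hc
  · rintro _ ⟨z, hz, rfl⟩ r hr
    exact (congrArg Subtype.val (Subgroup.mem_center_iff.1 hz ⟨r, hr⟩)).symm

/-- A `p`-element lift. -/
theorem exists_pLift {H : Type u} [Group H] [Finite H] (f : G →* H) (hf : Function.Surjective f)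
    {u : H} {k : ℕ} (hu : orderOf u = p ^ k) : ∃ g, f g = u ∧ ∃ m, orderOf g = p ^ m := by
  obtain ⟨g, rfl⟩ := hf u
  obtain ⟨a, m, hm, hgm⟩ := Nat.exists_eq_pow_mul_and_not_dvd (orderOf_pos g).ne' p hp.out.ne_one
  have hc : Nat.Coprime (p ^ a) m := ((hp.out.coprime_iff_not_dvd).2 hm).pow_left _
  obtain ⟨e, he1, he0⟩ := Nat.chineseRemainder hc 1 0
  refine ⟨g ^ e, ?_, ?_⟩
  · rw [map_pow]
    conv_rhs => rw [← pow_one (f g)]
    refine pow_eq_pow_iff_modEq.2 (he1.of_dvd ?_)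
    refine Nat.Coprime.dvd_of_dvd_mul_right (k := orderOf (f g)) (n := m) ?_ (hgm ▸ orderOf_map_dvd f g)
    rw [hu]; exact ((hp.out.coprime_iff_not_dvd).2 hm).pow_left _
  · obtain ⟨d, hd⟩ := Nat.modEq_zero_iff_dvd.1 he0
    have h1 : (g ^ e) ^ p ^ a = 1 := by
      rw [← pow_mul, hd, mul_comm m d, mul_assoc, mul_comm m, ← hgm, pow_mul', pow_orderOf_eq_one,
        one_pow]
    obtain ⟨b, -, hb⟩ := (Nat.dvd_prime_pow hp.out).1 (orderOf_dvd_of_pow_eq_one h1)
    exact ⟨b, hb⟩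

/-- A solvable group with trivial `p`-core has a vanishing element of order `p`. -/
theorem exists_van_prime : ∀ (n : ℕ) (G : Type u) [Group G] [Finite G] [Group.IsSolvable G],
    Nat.card G = n → Cfsg.pCore p G = ⊥ → p ∣ Nat.card G → ∃ x : G, orderOf x = p ∧ Van x := by
  intro n
  induction n using Nat.strong_induction_on with
  | _ n ih =>
  intro G _ _ _ hn hO hpd
  obtain ⟨N, hNn, hNc, hN1, hNp⟩ := exists_base hO hpd
  have hidx := Subgroup.card_eq_card_quotient_mul_card_subgroup N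
  have hlt : Nat.card (G ⧸ N) < n := by
    rw [← hn, hidx]
    refine lt_mul_of_one_lt_right Nat.card_pos ?_
    have : Nontrivial N := (Subgroup.nontrivial_iff_ne_bot N).2 hN1
    exact Finite.one_lt_card
  have hlift : ∀ u : G ⧸ N, orderOf u = p → (∀ g : G, (g : G ⧸ N) = u → Van g) →
      ∃ x : G, orderOf x = p ∧ Van x := by
    intro u hu hv
    obtain ⟨g, hg, m, hm⟩ := exists_pLift (p := p) (k := 1) (QuotientGroup.mk' N)
      (QuotientGroup.mk'_surjective N) (by rw [hu, pow_one])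
    refine ⟨g, ?_, hv g hg⟩
    have h1 : g ^ p ∈ N := (QuotientGroup.eq_one_iff _).1 (by
      rw [QuotientGroup.mk_pow, show (g : G ⧸ N) = u from hg, ← hu, pow_orderOf_eq_one])
    have h2 : g ^ p = 1 := orderOf_eq_one_iff.1 (Nat.eq_one_of_dvd_coprimes
      ((hp.out.coprime_iff_not_dvd.2 hNp).pow_left m) (hm ▸ orderOf_pow_dvd p)
      (Subgroup.orderOf_dvd_natCard _ h1))
    refine orderOf_eq_prime h2 fun e => ?_
    subst e
    rw [show u = 1 from hg.symm, orderOf_one] at hu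
    exact hp.out.ne_one hu.symm
  by_cases hQ : Cfsg.pCore p (G ⧸ N) = ⊥
  · obtain ⟨u, hu, hv⟩ := ih _ hlt (G ⧸ N) rfl hQ
      ((Nat.Coprime.dvd_of_dvd_mul_right (hp.out.coprime_iff_not_dvd.2 hNp)) (hidx ▸ hpd))
    exact hlift u hu fun g hg => van_of_map (QuotientGroup.mk'_surjective N)
      (show Van (g : G ⧸ N) by rw [hg]; exact hv)
  · obtain ⟨Z, hZn, hZQ, hZp, hZ1, hZc, -⟩ := exists_section N hQ
    obtain ⟨k, hk⟩ := hZp.exists_card_eq
    have hk0 : k ≠ 0 := fun e => hZ1 (Subgroup.card_eq_one.1 (by rw [hk, e, pow_zero]))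
    obtain ⟨z, hz⟩ := exists_prime_orderOf_dvd_card' (G := Z) p (hk ▸ dvd_pow_self p hk0)
    refine hlift (z : G ⧸ N) (by rw [Subgroup.orderOf_coe, hz]) fun g hg => ?_
    refine van_of_abelian N hNc Z (fun a ha b hb => hZc a ha b (hZQ hb)) ?_
      (faithful_of_pCore_eq_bot hO N Z hZp) g (hg ▸ z.2) fun e => ?_
    · rw [hk]; exact (hp.out.coprime_iff_not_dvd.2 hNp).pow_left k
    · rw [hg] at e
      rw [show z = 1 from Subtype.ext e, orderOf_one] at hz
      exact hp.out.ne_one hz.symm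

/-- Vanishing `p`-singular elements are `p`-elements, and their `p`-th powers are not of this kind. -/
def Hyp (p : ℕ) (G : Type u) [Group G] : Prop :=
  ∀ g : G, Van g → p ∣ orderOf g →
    (∃ k, orderOf g = p ^ k) ∧ (Van (g ^ p) → ¬ p ∣ orderOf (g ^ p))

theorem Hyp.quotient (h : Hyp p G) (N : Subgroup G) [N.Normal] : Hyp p (G ⧸ N) := by
  intro u hu hpu
  obtain ⟨g, rfl⟩ := QuotientGroup.mk_surjective u
  have hdvd : orderOf (g : G ⧸ N) ∣ orderOf g := orderOf_map_dvd (QuotientGroup.mk' N) g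
  obtain ⟨⟨k, hk⟩, h2⟩ := h g (van_of_map (QuotientGroup.mk'_surjective N) hu) (hpu.trans hdvd)
  refine ⟨?_, fun hv hd => h2 ?_ ?_⟩
  · obtain ⟨i, -, hi⟩ := (Nat.dvd_prime_pow hp.out).1 (hk ▸ hdvd)
    exact ⟨i, hi⟩
  · exact van_of_map (QuotientGroup.mk'_surjective N) (show Van ((g ^ p : G) : G ⧸ N) from hv)
  · exact hd.trans (orderOf_map_dvd (QuotientGroup.mk' N) (g ^ p))

/-- In a solvable group with trivial `p`-core satisfying `Hyp`, the Sylow order is at most `p`. -/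
theorem not_sq_dvd : ∀ (n : ℕ) (G : Type u) [Group G] [Finite G] [Group.IsSolvable G],
    Nat.card G = n → Cfsg.pCore p G = ⊥ → Hyp p G → ¬ p ^ 2 ∣ Nat.card G := by
  intro n
  induction n using Nat.strong_induction_on with
  | _ n ih =>
  intro G _ _ _ hn hO hH hsq
  have hpd : p ∣ Nat.card G := (dvd_pow_self p two_ne_zero).trans hsq
  obtain ⟨N, hNn, hNc, hN1, hNp⟩ := exists_base hO hpd
  have hidx := Subgroup.card_eq_card_quotient_mul_card_subgroup N
  have hcN : (Nat.card N).Coprime p := (hp.out.coprime_iff_not_dvd.2 hNp).symm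
  have hsqN : p ^ 2 ∣ Nat.card (G ⧸ N) :=
    (Nat.Coprime.dvd_of_dvd_mul_right (hcN.symm.pow_left 2)) (hidx ▸ hsq)
  have : Nontrivial N := (Subgroup.nontrivial_iff_ne_bot N).2 hN1
  have hlt : Nat.card (G ⧸ N) < n := by
    rw [← hn, hidx]
    exact lt_mul_of_one_lt_right Nat.card_pos Finite.one_lt_card
  by_cases hQ : Cfsg.pCore p (G ⧸ N) = ⊥
  · exact ih _ hlt (G ⧸ N) rfl hQ (hH.quotient N) hsqN
  obtain ⟨Z, hZn, hZQ, hZp, hZ1, hZc, hZmax⟩ := exists_section N hQ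
  set Q := Cfsg.pCore p (G ⧸ N) with hQdef
  have hQp : IsPGroup p Q := Core.pCore_isPGroup
  letI : CommGroup N :=
    { (inferInstance : Group N) with mul_comm := fun a b => Subtype.ext (hNc a a.2 b b.2) }
  let α := quotAction N hNc
  -- cosets all of whose elements vanish
  let Full : G ⧸ N → Prop := fun u => ∀ g : G, (g : G ⧸ N) = u → Van g
  have hFullmap : ∀ u, Van u → Full u := fun u hu g hg =>
    van_of_map (QuotientGroup.mk'_surjective N) (show Van (g : G ⧸ N) by rw [hg]; exact hu)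
  have hsing : ∀ u : G ⧸ N, u ≠ 1 → (∃ k, orderOf u = p ^ k) →
      ∀ g : G, (g : G ⧸ N) = u → p ∣ orderOf g := by
    rintro u hu1 ⟨k, hk⟩ g rfl
    refine (dvd_pow_self p (fun e : k = 0 => hu1 ?_)).trans
      (hk ▸ orderOf_map_dvd (QuotientGroup.mk' N) g)
    rw [e, pow_zero, orderOf_eq_one_iff] at hk
    exact hk
  have hfree : ∀ u : G ⧸ N, u ≠ 1 → (∃ k, orderOf u = p ^ k) → Full u →
      ∀ w : N, α u w = w → w = 1 := by
    intro u hu1 hk hF w hw
    obtain ⟨g, rfl⟩ := QuotientGroup.mk_surjective u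
    have hcomm : Commute g (w : G) := by
      have h1 := congrArg Subtype.val hw
      rw [quotAction_coe] at h1
      exact mul_inv_eq_iff_eq_mul.1 h1
    obtain ⟨⟨a, ha⟩, -⟩ := hH g (hF g rfl) (hsing _ hu1 hk g rfl)
    have hmk : ((g * w : G) : G ⧸ N) = (g : G ⧸ N) := by
      rw [QuotientGroup.mk_mul, (QuotientGroup.eq_one_iff (w : G)).2 w.2, mul_one]
    obtain ⟨⟨b, hb⟩, -⟩ := hH (g * w) (hF _ hmk) (hsing _ hu1 hk _ hmk)
    have hco : (orderOf g).Coprime (orderOf (w : G)) := by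
      rw [ha]
      exact Nat.Coprime.coprime_dvd_right (Subgroup.orderOf_dvd_natCard _ w.2) (hcN.symm.pow_left a)
    rw [hcomm.orderOf_mul_eq_mul_orderOf_of_coprime hco] at hb
    refine Subtype.ext (orderOf_eq_one_iff.1 (Nat.eq_one_of_dvd_coprimes (hcN.symm.pow_left b)
      (hb ▸ dvd_mul_left _ _) (Subgroup.orderOf_dvd_natCard _ w.2)))
  have hpow : ∀ u : G ⧸ N, (∃ k, orderOf u = p ^ k) → Full u → Full (u ^ p) → u ^ p = 1 := by
    rintro u ⟨k, hk⟩ hF hFp
    by_contra hne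
    obtain ⟨g, rfl⟩ := QuotientGroup.mk_surjective u
    have hk' : ∃ i, orderOf ((g : G ⧸ N) ^ p) = p ^ i := by
      obtain ⟨i, -, hi⟩ := (Nat.dvd_prime_pow hp.out).1 (hk ▸ orderOf_pow_dvd (x := (g : G ⧸ N)) p)
      exact ⟨i, hi⟩
    have hu1 : (g : G ⧸ N) ≠ 1 := fun e => hne (by rw [e, one_pow])
    exact (hH g (hF g rfl) (hsing _ hu1 ⟨k, hk⟩ g rfl)).2 (hFp (g ^ p) (QuotientGroup.mk_pow ..))
      (hsing _ hne hk' (g ^ p) (QuotientGroup.mk_pow ..))
  have hnotwo : ∀ x y : G ⧸ N, x * y = y * x → x ≠ 1 → x ^ p = 1 → y ^ p = 1 → Full x →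
      (∀ i : ℕ, x ^ i * y ≠ 1 ∧ Full (x ^ i * y)) → False := by
    intro x y hxy hx1 hxp hyp hFx hFy
    obtain ⟨w₀, hw₀⟩ := exists_ne (1 : N)
    refine not_free_pair (p := p) hcN w₀ hw₀ (α x) (α y) (by show _ = _; rw [← map_mul, hxy, map_mul])
      (by rw [← map_pow, hxp, map_one]) (by rw [← map_pow, hyp, map_one]) ?_ ?_
    · exact hfree x hx1 ⟨1, by rw [pow_one, orderOf_eq_prime hxp hx1]⟩ hFx
    · intro i
      rw [← map_pow, ← map_mul]
      refine hfree _ (hFy i).1 ⟨1, ?_⟩ (hFy i).2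
      rw [pow_one]
      refine orderOf_eq_prime ?_ (hFy i).1
      rw [(Commute.pow_left hxy i).mul_pow, hyp, mul_one, ← pow_mul, mul_comm, pow_mul, hxp, one_pow]
  -- the cosets in `Z`
  have hFullZ : ∀ u ∈ Z, u ≠ 1 → Full u := by
    rintro _ hu hu1 g rfl
    obtain ⟨k, hk⟩ := hZp.exists_card_eq
    exact van_of_abelian N hNc Z (fun a ha b hb => hZc a ha b (hZQ hb))
      (by rw [hk]; exact hcN.symm.pow_left k) (faithful_of_pCore_eq_bot hO N Z hZp) g hu hu1
  have hord : ∀ {H : Subgroup (G ⧸ N)}, IsPGroup p H → ∀ u ∈ H, ∃ k, orderOf u = p ^ k :=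
    fun hH u hu => by
      obtain ⟨k, hk⟩ := IsPGroup.iff_orderOf.1 hH ⟨u, hu⟩
      exact ⟨k, by rwa [Subgroup.orderOf_mk] at hk⟩
  have hZexp : ∀ u ∈ Z, u ^ p = 1 := fun u hu => by
    by_contra hne
    exact hne (hpow u (hord hZp u hu) (hFullZ u hu fun e => hne (by rw [e, one_pow]))
      (hFullZ _ (Z.pow_mem hu p) hne))
  obtain ⟨⟨x, hx⟩, hx1'⟩ := Subgroup.ne_bot_iff_exists_ne_one.1 hZ1
  have hx1 : x ≠ 1 := fun e => hx1' (Subtype.ext e)
  have hZeq : Z = Subgroup.zpowers x := by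
    refine le_antisymm (fun y hy => ?_) (Subgroup.zpowers_le.2 hx)
    by_contra hyx
    refine hnotwo x y (hZc x hx y (hZQ hy)) hx1 (hZexp x hx) (hZexp y hy) (hFullZ x hx hx1)
      fun i => ?_
    have hne : x ^ i * y ≠ 1 := fun e => hyx (by
      rw [eq_inv_of_mul_eq_one_right e]
      exact inv_mem (pow_mem (Subgroup.mem_zpowers x) i))
    exact ⟨hne, hFullZ _ (Z.mul_mem (Z.pow_mem hx i) hy) hne⟩
  have hxo : orderOf x = p := orderOf_eq_prime (hZexp x hx) hx1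
  have hZcard : Nat.card Z = p := by rw [hZeq, Nat.card_zpowers, hxo]
  -- `Q` is `Z`
  have hQZ : Q = Z := by
    by_contra hne
    let C : Subgroup Q := Z.subgroupOf Q
    have : Nontrivial (Q ⧸ C) := QuotientGroup.nontrivial_iff.2 fun e =>
      hne (le_antisymm (Subgroup.subgroupOf_eq_top.1 e) hZQ)
    have := (hQp.to_quotient C).center_nontrivial
    obtain ⟨⟨Y, hY⟩, hY1⟩ := exists_ne (1 : Subgroup.center (Q ⧸ C))
    obtain ⟨⟨y, hyQ⟩, rfl⟩ := QuotientGroup.mk_surjective Y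
    have hyZ : y ∉ Z := fun h => hY1 (Subtype.ext ((QuotientGroup.eq_one_iff _).2 h))
    have hcomm : ∀ r ∈ Q, r * y * r⁻¹ * y⁻¹ ∈ Z := fun r hr => by
      have h1 := (Subgroup.mem_center_iff.1 hY) ((⟨r, hr⟩ : Q) : Q ⧸ C)
      rw [← mul_inv_eq_iff_eq_mul, ← mul_inv_eq_one, ← QuotientGroup.mk_mul, ← QuotientGroup.mk_inv,
        ← QuotientGroup.mk_mul, ← QuotientGroup.mk_inv, ← QuotientGroup.mk_mul,
        QuotientGroup.eq_one_iff] at h1
      exact h1
    have hcomm' : ∀ i : ℕ, ∀ r ∈ Q,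
        r * (x ^ i * y) * r⁻¹ * (x ^ i * y)⁻¹ = r * y * r⁻¹ * y⁻¹ := by
      intro i r hr
      have hri : x ^ i * r = r * x ^ i := hZc _ (Z.pow_mem hx i) r hr
      have hci : x ^ i * (r * y * r⁻¹ * y⁻¹) = r * y * r⁻¹ * y⁻¹ * x ^ i :=
        hZc _ (Z.pow_mem hx i) _ (hZQ (hcomm r hr))
      rw [show r * (x ^ i * y) * r⁻¹ * (x ^ i * y)⁻¹ = (r * x ^ i) * y * r⁻¹ * y⁻¹ * (x ^ i)⁻¹ by
        simp [mul_assoc], ← hri,
        show x ^ i * r * y * r⁻¹ * y⁻¹ * (x ^ i)⁻¹ = x ^ i * (r * y * r⁻¹ * y⁻¹) * (x ^ i)⁻¹ by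
        simp [mul_assoc], hci, mul_inv_cancel_right]
    have hFy : ∀ i : ℕ, x ^ i * y ≠ 1 ∧ Full (x ^ i * y) := by
      intro i
      have hmem : x ^ i * y ∈ Q := Q.mul_mem (hZQ (Z.pow_mem hx i)) hyQ
      have hnot : x ^ i * y ∉ Z := fun h => hyZ ((Z.mul_mem_cancel_left (Z.pow_mem hx i)).1 h)
      refine ⟨fun e => hnot (e ▸ Z.one_mem), hFullmap _ ?_⟩
      obtain ⟨r, hr, hrne⟩ : ∃ r ∈ Q, r * (x ^ i * y) * r⁻¹ * (x ^ i * y)⁻¹ ≠ 1 := by
        by_contra! hall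
        exact hnot (hZmax _ hmem fun r hr => mul_inv_eq_iff_eq_mul.1 (mul_inv_eq_one.1 (hall r hr)))
      have hcZ : r * (x ^ i * y) * r⁻¹ * (x ^ i * y)⁻¹ ∈ Z := hcomm' i r hr ▸ hcomm r hr
      refine van_of_central_commutator Q hmem hr rfl hrne (fun s hs => hZc _ hcZ s hs) ?_
      have he : Subgroup.zpowers (r * (x ^ i * y) * r⁻¹ * (x ^ i * y)⁻¹) = Z :=
        Subgroup.eq_of_le_of_card_ge (Subgroup.zpowers_le.2 hcZ) (le_of_eq (by
          rw [hZcard, Nat.card_zpowers, orderOf_eq_prime (hZexp _ hcZ) hrne]))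
      rw [he]; exact hZn
    have hyp : y ^ p ∈ Z := by
      refine hZmax _ (Q.pow_mem hyQ p) fun r hr => mul_inv_eq_iff_eq_mul.1 ?_
      have h1 : Commute (r * y * r⁻¹ * y⁻¹) y := hZc _ (hcomm r hr) y hyQ
      rw [← conj_pow, show r * y * r⁻¹ = (r * y * r⁻¹ * y⁻¹) * y by rw [inv_mul_cancel_right],
        h1.mul_pow, hZexp _ (hcomm r hr), one_mul]
    have hF0 : Full y := by simpa using (hFy 0).2
    have hyp1 : y ^ p = 1 := by
      by_contra hne'
      exact hne' (hpow y (hord hQp y hyQ) hF0 (hFullZ _ hyp hne'))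
    exact hnotwo x y (hZc x hx y hyQ) hx1 (hZexp x hx) hyp1 (hFullZ x hx hx1) hFy
  -- the quotient by `Q`
  have hQcard : Nat.card Q = p := by rw [hQZ, hZcard]
  have hidx2 := Subgroup.card_eq_card_quotient_mul_card_subgroup Q
  have hpd2 : p ∣ Nat.card ((G ⧸ N) ⧸ Q) := by
    rw [hidx2, hQcard, sq] at hsqN
    exact Nat.dvd_of_mul_dvd_mul_right hp.out.pos hsqN
  have hOQ : Cfsg.pCore p ((G ⧸ N) ⧸ Q) = ⊥ := Core.pCore_quotient_eq_bot
  obtain ⟨u, hu, huv⟩ := exists_van_prime _ ((G ⧸ N) ⧸ Q) rfl hOQ hpd2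
  obtain ⟨y, hy, m, hym⟩ := exists_pLift (p := p) (k := 1) (QuotientGroup.mk' Q)
    (QuotientGroup.mk'_surjective Q) (by rw [hu, pow_one])
  have hyQ : y ∉ Q := fun h => hp.out.ne_one (by
    rw [← hu, ← show (y : (G ⧸ N) ⧸ Q) = u from hy, (QuotientGroup.eq_one_iff y).2 h, orderOf_one])
  have hyx : x * y = y * x := by
    let c : G ⧸ N →* MulAut Z := MulAut.conjNormal
    have : IsCyclic Z := isCyclic_of_prime_card hZcard
    have h1 : Nat.card (MulAut Z) = p - 1 := by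
      rw [IsCyclic.card_mulAut, hZcard, Nat.totient_prime hp.out]
    have h2 : orderOf (c y) ∣ p - 1 := h1 ▸ orderOf_dvd_natCard _
    have h3 : orderOf (c y) ∣ p ^ m := hym ▸ orderOf_map_dvd c y
    have h4 : (p ^ m).Coprime (p - 1) := by
      refine (hp.out.coprime_iff_not_dvd.2 fun h => ?_).pow_left m
      exact absurd (Nat.le_of_dvd (Nat.sub_pos_of_lt hp.out.one_lt) h) (by have := hp.out.pos; omega)
    have h5 : c y = 1 := orderOf_eq_one_iff.1 (Nat.eq_one_of_dvd_coprimes h4 h3 h2)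
    have h6 := congrArg Subtype.val (DFunLike.congr_fun h5 ⟨x, hx⟩)
    rw [MulAut.conjNormal_apply, MulAut.one_apply] at h6
    exact (mul_inv_eq_iff_eq_mul.1 h6).symm
  have hFy : ∀ i : ℕ, x ^ i * y ≠ 1 ∧ Full (x ^ i * y) := by
    intro i
    have hxQ : x ^ i ∈ Q := hQZ ▸ Z.pow_mem hx i
    refine ⟨fun e => hyQ ((Q.mul_mem_cancel_left hxQ).1 (e ▸ Q.one_mem)), hFullmap _ ?_⟩
    refine van_of_map (QuotientGroup.mk'_surjective Q) ?_
    show Van ((x ^ i * y : G ⧸ N) : (G ⧸ N) ⧸ Q)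
    rw [QuotientGroup.mk_mul, (QuotientGroup.eq_one_iff _).2 hxQ, one_mul,
      show (y : (G ⧸ N) ⧸ Q) = u from hy]
    exact huv
  have hF0 : Full y := by simpa using (hFy 0).2
  have hyp : y ^ p ∈ Z := hQZ ▸ (QuotientGroup.eq_one_iff _).1 (by
    rw [QuotientGroup.mk_pow, show (y : (G ⧸ N) ⧸ Q) = u from hy]
    exact orderOf_dvd_iff_pow_eq_one.1 hu.dvd)
  have hyp1 : y ^ p = 1 := by
    by_contra hne
    exact hne (hpow y ⟨m, hym⟩ hF0 (hFullZ _ hyp hne))
  exact hnotwo x y hyx hx1 (hZexp x hx) hyp1 (hFullZ x hx hx1) hFy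

omit [Finite G] hp in
/-- The derived subgroup of a subgroup with cyclic image is in the kernel. -/
theorem commutator_le_of_isCyclic_map {P K : Subgroup G} [K.Normal]
    (hc : IsCyclic (P.map (QuotientGroup.mk' K))) : (commutator P).map P.subtype ≤ K := by
  rw [Subgroup.map_subtype_commutator, Subgroup.commutator_le]
  intro a ha b hb
  let f := QuotientGroup.mk' K
  have h1 := congrArg Subtype.val (hc.commutative.is_comm.comm (⟨f a, a, ha, rfl⟩ : P.map f)
    ⟨f b, b, hb, rfl⟩)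
  rw [← QuotientGroup.eq_one_iff, show ((⁅a, b⁆ : G) : G ⧸ K) = f ⁅a, b⁆ from rfl, map_commutatorElement]
  exact commutatorElement_eq_one_iff_mul_comm.2 h1

omit hp in
/-- A subgroup of a nilpotent normal subgroup is subnormal. -/
theorem isSubnormal_of_le_nilpotent {K : Subgroup G} [K.Normal] (hK : Group.IsNilpotent K) :
    ∀ H : Subgroup G, H ≤ K → H.IsSubnormal := by
  have hnc : NormalizerCondition K := normalizerCondition_of_isNilpotent
  have key : ∀ H : Subgroup K, H.IsSubnormal := by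
    intro H
    induction H using (wellFounded_gt (α := Subgroup K)).induction with
    | _ H ih =>
      by_cases htop : H = ⊤
      · subst htop; exact Subgroup.Normal.isSubnormal inferInstance
      · exact Subgroup.IsSubnormal.trans Subgroup.le_normalizer
          (Subgroup.Normal.isSubnormal inferInstance) (ih _ (hnc H (lt_top_iff_ne_top.2 htop)))
  intro H hH
  exact Subgroup.IsSubnormal.trans hH (key _) (Subgroup.Normal.isSubnormal inferInstance)

/-- If the vanishing `p`-singular elements have one order then a Sylow subgroup has image of order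
dividing `p` modulo the `p`-core. -/
theorem card_map_dvd [Group.IsSolvable G] (P : Sylow p G)
    (hsame : ∀ g h : G, Van g → p ∣ orderOf g → Van h → p ∣ orderOf h → orderOf g = orderOf h) :
    Nat.card ((P : Subgroup G).map (QuotientGroup.mk' (Cfsg.pCore p G))) ∣ p := by
  obtain ⟨k, hk⟩ := (P.isPGroup'.map (QuotientGroup.mk' (Cfsg.pCore p G))).exists_card_eq
  have hdvd : p ^ k ∣ Nat.card (G ⧸ Cfsg.pCore p G) := hk ▸ Subgroup.card_subgroup_dvd_card _
  rw [hk]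
  by_cases hk2 : 2 ≤ k
  swap
  · exact (pow_dvd_pow p (by omega : k ≤ 1)).trans (pow_one p).dvd
  exfalso
  have hO : Cfsg.pCore p (G ⧸ Cfsg.pCore p G) = ⊥ := Core.pCore_quotient_eq_bot
  obtain ⟨x, hx, hxv⟩ := exists_van_prime _ (G ⧸ Cfsg.pCore p G) rfl hO
    ((dvd_pow_self p (by omega)).trans hdvd)
  obtain ⟨g, hg, m, hgm⟩ := exists_pLift (p := p) (k := 1) (QuotientGroup.mk' (Cfsg.pCore p G))
    (QuotientGroup.mk'_surjective _) (by rw [hx, pow_one])
  have hgv : Van g := van_of_map (QuotientGroup.mk'_surjective (Cfsg.pCore p G)) (hg ▸ hxv)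
  have hgp : p ∣ orderOf g := by
    rw [← hx, ← hg]; exact orderOf_map_dvd _ g
  have hG : Hyp p G := by
    intro h hh hhp
    refine ⟨⟨m, (hsame h g hh hhp hgv hgp).trans hgm⟩, fun hv hd => ?_⟩
    have h1 := hsame h (h ^ p) hh hhp hv hd
    rw [orderOf_pow' h hp.out.ne_zero, Nat.gcd_eq_right hhp] at h1
    exact (Nat.div_lt_self (orderOf_pos h) hp.out.one_lt).ne h1.symm
  exact not_sq_dvd _ (G ⧸ Cfsg.pCore p G) rfl hO (hG.quotient _) ((pow_dvd_pow p hk2).trans hdvd)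

end Cfsg.Agent.VanPSing
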