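import Mathlib

/-!
# Coprime abelian groups of automorphisms of abelian groups
-/

namespace Cfsg.Agent.VanPSing

universe u v

variable {Z : Type u} [CommGroup Z] [Finite Z] {W : Type v} [CommGroup W] [Finite W]

/-- A fixed point which is also a displacement is trivial. -/
theorem eq_one_of_fixed_displacement (φ : Z →* MulAut W) (hcop : (Nat.card Z).Coprime (Nat.card W))
    (z : Z) (w : W) (h : φ z (φ z w * w⁻¹) = φ z w * w⁻¹) : φ z w * w⁻¹ = 1 := by
  obtain ⟨d, hd⟩ : ∃ d, d = φ z w * w⁻¹ := ⟨_, rfl⟩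
  rw [← hd] at h ⊢
  have hstep : φ z w = d * w := by rw [hd, inv_mul_cancel_right]
  have hiter : ∀ k : ℕ, φ (z ^ k) w = d ^ k * w := fun k => by
    induction k with
    | zero => simp
    | succ k ih =>
      rw [pow_succ', map_mul, MulAut.mul_apply, ih, map_mul, map_pow, h, hstep, pow_succ, mul_assoc]
  have h1 := hiter (Nat.card Z)
  rw [pow_card_eq_one', map_one, MulAut.one_apply, eq_comm, mul_eq_right] at h1
  exact (powCoprime (Nat.Coprime.symm hcop)).injective (by simp [h1])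

/-- Some point of an invariant subgroup has its stabilizer acting trivially on the subgroup. -/
theorem exists_point_aux (φ : Z →* MulAut W) (hcop : (Nat.card Z).Coprime (Nat.card W)) :
    ∀ (n : ℕ) (S : Subgroup W), Nat.card S = n → (∀ z, ∀ u ∈ S, φ z u ∈ S) →
      ∃ w ∈ S, ∀ z, φ z w = w → ∀ u ∈ S, φ z u = u := by
  intro n
  induction n using Nat.strong_induction_on with
  | _ n ih =>
  intro S hn hinv
  by_cases hz : ∃ (z : Z) (a b : W), a ∈ S ∧ b ∈ S ∧ a ≠ 1 ∧ φ z a = a ∧ φ z b ≠ b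
  swap
  · push Not at hz
    by_cases hS : S = ⊥
    · exact ⟨1, one_mem _, fun z _ u hu => by
        rw [hS, Subgroup.mem_bot] at hu; rw [hu, map_one]⟩
    · obtain ⟨⟨a, ha⟩, ha1⟩ := Subgroup.ne_bot_iff_exists_ne_one.1 hS
      exact ⟨a, ha, fun z hza u hu => hz z a u ha hu (fun e => ha1 (Subtype.ext e)) hza⟩
  obtain ⟨z, a, b, ha, hb, ha1, hza, hzb⟩ := hz
  let d : S →* W :=
    { toFun := fun u => φ z u * (u : W)⁻¹
      map_one' := by simp
      map_mul' := fun u v => by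
        show φ z ((u : W) * v) * ((u : W) * v)⁻¹ = φ z u * (u : W)⁻¹ * (φ z v * (v : W)⁻¹)
        rw [map_mul, mul_inv, mul_mul_mul_comm] }
  let F : Subgroup W :=
    { carrier := {u | φ z u = u}
      one_mem' := map_one _
      mul_mem' := fun {u v} (hu : φ z u = u) (hv : φ z v = v) => show φ z (u * v) = u * v by
        rw [map_mul, hu, hv]
      inv_mem' := fun {u} (hu : φ z u = u) => show φ z u⁻¹ = u⁻¹ by rw [map_inv, hu] }
  have hcomm : ∀ (y : Z) (u : W), φ y (φ z u) = φ z (φ y u) := fun y u => by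
    rw [← MulAut.mul_apply, ← map_mul, mul_comm, map_mul, MulAut.mul_apply]
  have h1inv : ∀ y, ∀ u ∈ S ⊓ F, φ y u ∈ S ⊓ F := fun y u hu =>
    ⟨hinv y u hu.1, show φ z (φ y u) = φ y u by rw [← hcomm, show φ z u = u from hu.2]⟩
  have h2le : d.range ≤ S := by
    rintro _ ⟨u, rfl⟩
    exact S.mul_mem (hinv z u u.2) (S.inv_mem u.2)
  have h2inv : ∀ y, ∀ u ∈ d.range, φ y u ∈ d.range := by
    rintro y _ ⟨u, rfl⟩
    refine ⟨⟨φ y u, hinv y u u.2⟩, ?_⟩
    show φ z (φ y u) * (φ y u)⁻¹ = φ y (φ z u * (u : W)⁻¹)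
    rw [map_mul, map_inv, hcomm]
  have hdisj : ∀ u ∈ S ⊓ F, u ∈ d.range → u = 1 := by
    rintro _ hu ⟨v, rfl⟩
    exact eq_one_of_fixed_displacement φ hcop z v hu.2
  have hcard : Nat.card S = Nat.card d.range * Nat.card (S ⊓ F : Subgroup W) := by
    rw [Subgroup.card_eq_card_quotient_mul_card_subgroup d.ker,
      Nat.card_congr (QuotientGroup.quotientKerEquivRange d).toEquiv]
    congr 1
    refine Nat.card_congr
      { toFun := fun u => ⟨(u : S), (u : S).2, mul_inv_eq_one.1 u.2⟩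
        invFun := fun u => ⟨⟨u, u.2.1⟩, mul_inv_eq_one.2 u.2.2⟩
        left_inv := fun u => rfl
        right_inv := fun u => rfl }
  have hlt1 : Nat.card (S ⊓ F : Subgroup W) < n := by
    rw [← hn]
    refine lt_of_le_of_ne (Subgroup.card_le_of_le inf_le_left) fun e => hzb ?_
    exact ((Subgroup.eq_of_le_of_card_ge inf_le_left e.ge).symm ▸ hb : b ∈ S ⊓ F).2
  have hlt2 : Nat.card d.range < n := by
    rw [← hn, hcard]
    refine lt_mul_of_one_lt_right Nat.card_pos ?_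
    have : Nontrivial (S ⊓ F : Subgroup W) :=
      ⟨⟨a, ha, hza⟩, 1, fun e => ha1 (congrArg Subtype.val e)⟩
    exact Finite.one_lt_card
  obtain ⟨w₁, hw₁, hfix₁⟩ := ih _ hlt1 (S ⊓ F) rfl h1inv
  obtain ⟨w₂, hw₂, hfix₂⟩ := ih _ hlt2 d.range rfl h2inv
  refine ⟨w₁ * w₂, S.mul_mem hw₁.1 (h2le hw₂), fun y hy u hu => ?_⟩
  have hy' : φ y w₁ * w₁⁻¹ = (φ y w₂ * w₂⁻¹)⁻¹ := by
    rw [map_mul] at hy
    rw [← mul_eq_one_iff_eq_inv, mul_mul_mul_comm, hy, ← mul_inv, mul_inv_cancel]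
  have h1 : φ y w₁ * w₁⁻¹ = 1 :=
    hdisj _ ((S ⊓ F).mul_mem (h1inv y _ hw₁) ((S ⊓ F).inv_mem hw₁))
      (hy' ▸ d.range.inv_mem (d.range.mul_mem (h2inv y _ hw₂) (d.range.inv_mem hw₂)))
  have h2 : φ y w₂ * w₂⁻¹ = 1 := inv_eq_one.1 (hy'.symm.trans h1)
  have k1 := hfix₁ y (mul_inv_eq_one.1 h1)
  have k2 := hfix₂ y (mul_inv_eq_one.1 h2)
  -- the two parts span
  let m : (S ⊓ F : Subgroup W) × d.range → S := fun x =>
    ⟨(x.1 : W) * x.2, S.mul_mem x.1.2.1 (h2le x.2.2)⟩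
  have hm : Function.Injective m := by
    rintro ⟨a₁, b₁⟩ ⟨a₂, b₂⟩ e
    have e' : (a₁ : W) * b₁ = a₂ * b₂ := congrArg Subtype.val e
    have e1 : (a₁ : W) * (a₂ : W)⁻¹ = b₂ * (b₁ : W)⁻¹ := by
      rw [mul_inv_eq_iff_eq_mul, mul_comm ((b₂ : W) * _), ← mul_assoc, ← e', mul_inv_cancel_right]
    have e2 : (a₁ : W) * (a₂ : W)⁻¹ = 1 :=
      hdisj _ ((S ⊓ F).mul_mem a₁.2 ((S ⊓ F).inv_mem a₂.2))
        (e1 ▸ d.range.mul_mem b₂.2 (d.range.inv_mem b₁.2))
    have e3 : (b₂ : W) = b₁ := mul_inv_eq_one.1 (e1.symm.trans e2)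
    exact Prod.ext (Subtype.ext (mul_inv_eq_one.1 e2)) (Subtype.ext e3.symm)
  have hbij := hm.bijective_of_nat_card_le (by rw [Nat.card_prod, hcard, mul_comm])
  obtain ⟨⟨x₁, x₂⟩, hx⟩ := hbij.2 ⟨u, hu⟩
  rw [← show (x₁ : W) * x₂ = u from congrArg Subtype.val hx, map_mul, k1 _ x₁.2, k2 _ x₂.2]

/-- A coprime abelian group of automorphisms of an abelian group has a regular orbit. -/
theorem exists_regular_point (φ : Z →* MulAut W) (hcop : (Nat.card Z).Coprime (Nat.card W)) :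
    ∃ w, ∀ z, φ z w = w → φ z = 1 := by
  obtain ⟨w, -, hw⟩ := exists_point_aux φ hcop _ ⊤ rfl fun z u _ => trivial
  exact ⟨w, fun z hz => MulEquiv.ext fun u => hw z hz u trivial⟩

/-- The orbit product of a fixed-point-free automorphism of order `p` is trivial. -/
theorem prod_orbit_eq_one {α : MulAut W} {p : ℕ} (hα : α ^ p = 1) (hfree : ∀ w, α w = w → w = 1)
    (w : W) : ∏ i ∈ Finset.range p, (α ^ i) w = 1 := by
  refine hfree _ ?_
  rw [map_prod]
  have h : ∀ i, α ((α ^ i) w) = (α ^ (i + 1)) w := fun i => by rw [pow_succ', MulAut.mul_apply]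
  simp_rw [h]
  refine mul_right_cancel (b := (α ^ 0) w) ?_
  rw [← Finset.prod_range_succ' (fun i => (α ^ i) w) p, Finset.prod_range_succ, hα, pow_zero]

/-- Two commuting automorphisms of order `p` cannot act without fixed points with all their products. -/
theorem not_free_pair {p : ℕ} [hp : Fact p.Prime] (hW : (Nat.card W).Coprime p) (w₀ : W) (hw₀ : w₀ ≠ 1)
    (α β : MulAut W) (hαβ : Commute α β) (hα : α ^ p = 1) (hβ : β ^ p = 1)
    (hfα : ∀ w, α w = w → w = 1) (hfβ : ∀ i, ∀ w, (α ^ i * β) w = w → w = 1) : False := by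
  have hfk : ∀ k, 0 < k → k < p → ∀ w, (α ^ k) w = w → w = 1 := by
    intro k hk hkp w hw
    refine hfα w ?_
    have hiter : ∀ m, ((α ^ k) ^ m) w = w := fun m => by
      induction m with
      | zero => simp
      | succ m ih => rw [pow_succ, MulAut.mul_apply, hw, ih]
    obtain ⟨m, -, hm⟩ := Nat.exists_mul_mod_eq_one_of_coprime
      ((hp.out.coprime_iff_not_dvd.2 (Nat.not_dvd_of_pos_of_lt hk hkp)).symm) hp.out.one_lt
    have h1 := hiter m
    rw [← pow_mul, pow_eq_pow_mod (k * m) hα, hm, pow_one] at h1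
    exact h1
  have hone : ∀ i, ∏ k ∈ Finset.range p, ((α ^ i * β) ^ k) w₀ = 1 := fun i => by
    refine prod_orbit_eq_one ?_ (hfβ i) w₀
    rw [(hαβ.pow_left i).mul_pow, hβ, mul_one, ← pow_mul, mul_comm, pow_mul, hα, one_pow]
  have hswap : ∏ k ∈ Finset.range p, ∏ i ∈ Finset.range p, ((α ^ i * β) ^ k) w₀ = 1 := by
    rw [Finset.prod_comm]
    exact Finset.prod_eq_one fun i _ => hone i
  have hin : ∀ k ∈ Finset.range p, k ≠ 0 →
      ∏ i ∈ Finset.range p, ((α ^ i * β) ^ k) w₀ = 1 := by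
    intro k hk hk0
    rw [← prod_orbit_eq_one (w := (β ^ k) w₀) (α := α ^ k) (p := p)
      (by rw [← pow_mul, mul_comm, pow_mul, hα, one_pow])
      (hfk k (Nat.pos_of_ne_zero hk0) (Finset.mem_range.1 hk))]
    refine Finset.prod_congr rfl fun i _ => ?_
    rw [(hαβ.pow_left i).mul_pow, MulAut.mul_apply, ← pow_mul, ← pow_mul, mul_comm]
  rw [Finset.prod_eq_single_of_mem 0 (Finset.mem_range.2 hp.out.pos) hin] at hswap
  simp only [pow_zero, MulAut.one_apply, Finset.prod_const, Finset.card_range] at hswap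
  exact hw₀ ((powCoprime hW).injective (by simp [hswap]))

end Cfsg.Agent.VanPSing
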