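import Cfsg.Agent.BlockChar.VanPSing.Regular
import Cfsg.Agent.Char.Linear
import Cfsg.Agent.Char.Induced
import Cfsg.Agent.Char.NormalAbelianSylow
import Cfsg.Agent.Char.CliffordCorr
import Cfsg.Agent.Char.DerivedPrime
import Cfsg.Agent.ProjExt.CliffordCorr
import Cfsg.Agent.Core.PCore

/-!
# Vanishing elements from normal subgroups
-/

namespace Cfsg.Agent.VanPSing

open Cfsg.Agent.Char

universe u

variable {G : Type u} [Group G]

/-- Some irreducible character is zero at `g`. -/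
def Van (g : G) : Prop := ∃ χ : IrrCharacter G, (χ : G → ℂ) g = 0

theorem van_of_map {H : Type u} [Group H] {f : G →* H} (hf : Function.Surjective f) {g : G}
    (h : Van (f g)) : Van g := by
  obtain ⟨χ, hχ⟩ := h
  exact ⟨⟨_, isIrrCharacter_comp f hf χ.2⟩, hχ⟩

/-- The conjugation action of a quotient on an abelian normal subgroup. -/
noncomputable def quotAction (N : Subgroup G) [N.Normal] (hN : ∀ a ∈ N, ∀ b ∈ N, a * b = b * a) :
    G ⧸ N →* MulAut N :=
  QuotientGroup.lift N MulAut.conjNormal fun a ha => MulEquiv.ext fun n => Subtype.ext (by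
    rw [MulAut.conjNormal_apply, MulAut.one_apply, hN a ha n n.2, mul_inv_cancel_right])

theorem quotAction_coe (N : Subgroup G) [N.Normal] (hN : ∀ a ∈ N, ∀ b ∈ N, a * b = b * a) (g : G)
    (n : N) : ((quotAction N hN (g : G ⧸ N) n : N) : G) = g * n * g⁻¹ :=
  MulAut.conjNormal_apply g n

variable [Finite G]

/-- A normal subgroup of the quotient acting coprimely, faithfully and abelianly on `N`
consists, the identity apart, of cosets of vanishing elements. -/
theorem van_of_abelian (N : Subgroup G) [N.Normal] (hN : ∀ a ∈ N, ∀ b ∈ N, a * b = b * a)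
    (Z : Subgroup (G ⧸ N)) [Z.Normal] (hZ : ∀ a ∈ Z, ∀ b ∈ Z, a * b = b * a)
    (hcop : (Nat.card Z).Coprime (Nat.card N))
    (hfaith : ∀ g : G, (g : G ⧸ N) ∈ Z → (∀ n ∈ N, g * n = n * g) → (g : G ⧸ N) = 1)
    (g : G) (hg : (g : G ⧸ N) ∈ Z) (hg1 : (g : G ⧸ N) ≠ 1) : Van g := by
  classical
  cases nonempty_fintype G
  letI := Fintype.ofFinite N
  letI : CommGroup N :=
    { (inferInstance : Group N) with mul_comm := fun a b => Subtype.ext (hN a a.2 b b.2) }
  letI : CommGroup Z :=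
    { (inferInstance : Group Z) with mul_comm := fun a b => Subtype.ext (hZ a a.2 b b.2) }
  let α : G ⧸ N →* MulAut N := quotAction N hN
  let φ : Z →* MulAut (N →* ℂˣ) :=
    { toFun := fun z =>
        { toFun := fun f => f.comp (α (z : G ⧸ N)⁻¹).toMonoidHom
          invFun := fun f => f.comp (α (z : G ⧸ N)).toMonoidHom
          left_inv := fun f => MonoidHom.ext fun n => congrArg f (by simp)
          right_inv := fun f => MonoidHom.ext fun n => congrArg f (by simp)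
          map_mul' := fun f f' => rfl }
      map_one' := MulEquiv.ext fun f => MonoidHom.ext fun n => congrArg f (by simp)
      map_mul' := fun x y => MulEquiv.ext fun f => MonoidHom.ext fun n => congrArg f (by simp) }
  have hW : Nat.card (N →* ℂˣ) = Nat.card N :=
    CommGroup.card_monoidHom_of_hasEnoughRootsOfUnity N ℂ
  have : Finite (N →* ℂˣ) := Nat.finite_of_card_ne_zero (by rw [hW]; exact Nat.card_pos.ne')
  obtain ⟨w, hw⟩ := exists_regular_point φ (hW.symm ▸ hcop)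
  have hθ : IsIrrCharacter N (fun n => (w n : ℂ)) := isIrrCharacter_hom w
  obtain ⟨χ, hcon⟩ := exists_over N ⟨_, hθ⟩
  obtain ⟨ψ, -, hind, -⟩ := ProjExt.exists_correspondent hθ rfl
    (le_inertia (isClassFunction_of_isIrr hθ)) χ.2 hcon
  refine ⟨χ, ?_⟩
  rw [← hind]
  refine indFun_apply_eq_zero _ _ fun x hx => hg1 ?_
  set y := x⁻¹ * g * x with hy
  have hyZ : (y : G ⧸ N) ∈ Z := by
    have h1 := ‹Z.Normal›.conj_mem _ hg (x : G ⧸ N)⁻¹
    rw [inv_inv] at h1
    rw [hy, QuotientGroup.mk_mul, QuotientGroup.mk_mul, QuotientGroup.mk_inv]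
    exact h1
  have hfix : φ ⟨_, hyZ⟩ w = w := by
    refine MonoidHom.ext fun n => Units.ext ?_
    have h1 := congrFun (mem_inertia.1 ((inertia (fun n => (w n : ℂ))).inv_mem hx)) n
    rw [conjFun_apply] at h1
    refine Eq.trans (congrArg (fun m : N => ((w m : ℂˣ) : ℂ)) (Subtype.ext ?_)) h1
    show ((α (y : G ⧸ N)⁻¹ n : N) : G) = y⁻¹ * n * y⁻¹⁻¹
    rw [← QuotientGroup.mk_inv]
    exact quotAction_coe N hN _ n
  have h2 := hw _ hfix
  have h3 : ∀ n ∈ N, y * n = n * y := by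
    intro n hn
    have h4 : α (y : G ⧸ N)⁻¹ ⟨n, hn⟩ = ⟨n, hn⟩ := by
      by_contra hne
      obtain ⟨f, hf⟩ := CommGroup.exists_apply_ne_one_of_hasEnoughRootsOfUnity N ℂ
        (a := α (y : G ⧸ N)⁻¹ ⟨n, hn⟩ * (⟨n, hn⟩ : N)⁻¹) (fun e => hne (mul_inv_eq_one.1 e))
      refine hf ?_
      rw [map_mul, show f (α (y : G ⧸ N)⁻¹ ⟨n, hn⟩) = f ⟨n, hn⟩ from
        DFunLike.congr_fun (DFunLike.congr_fun h2 f) ⟨n, hn⟩, ← map_mul, mul_inv_cancel, map_one]
    have h5 := congrArg Subtype.val h4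
    rw [← QuotientGroup.mk_inv, quotAction_coe, inv_inv] at h5
    change y⁻¹ * n * y = n at h5
    conv_lhs => rw [← h5]
    group
  have h6 := hfaith y hyZ h3
  rw [QuotientGroup.eq_one_iff] at h6 ⊢
  have h7 := ‹N.Normal›.conj_mem y h6 x
  rwa [hy, show x * (x⁻¹ * g * x) * x⁻¹ = g by group] at h7

/-- An element with a central commutator of which the subgroup it generates is normal vanishes. -/
theorem van_of_central_commutator (Q : Subgroup G) [Q.Normal] {y q c : G} (hy : y ∈ Q) (hq : q ∈ Q)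
    (hc : c = q * y * q⁻¹ * y⁻¹) (hc1 : c ≠ 1) (hcen : ∀ r ∈ Q, c * r = r * c)
    (hcn : (Subgroup.zpowers c).Normal) : Van y := by
  classical
  cases nonempty_fintype G
  letI := Fintype.ofFinite Q
  have hcQ : c ∈ Q := hc ▸ Q.mul_mem (Q.mul_mem (Q.mul_mem hq hy) (Q.inv_mem hq)) (Q.inv_mem hy)
  obtain ⟨θ₀, hθ₀⟩ := exists_irr_ne_at_one (g := (⟨c, hcQ⟩ : Q))
    (fun e => hc1 (congrArg Subtype.val e))
  obtain ⟨χ, hcon⟩ := exists_over Q θ₀
  refine ⟨χ, ?_⟩
  have h1 := congrFun (clifford χ.2 θ₀.2 hcon) ⟨y, hy⟩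
  refine h1.trans ?_
  rw [Pi.smul_apply, Finset.sum_apply, Finset.sum_eq_zero, smul_zero]
  intro θ hθ
  obtain ⟨g, rfl⟩ := mem_orbit.1 hθ
  let e : Q →* Q :=
    { toFun := fun r => ⟨g * r * g⁻¹, ‹Q.Normal›.conj_mem r r.2 g⟩
      map_one' := Subtype.ext (by simp)
      map_mul' := fun r s => Subtype.ext (by simp [mul_assoc]) }
  have hsurj : Function.Surjective e := fun r =>
    ⟨⟨g⁻¹ * r * g⁻¹⁻¹, ‹Q.Normal›.conj_mem r r.2 g⁻¹⟩, Subtype.ext (by simp [e, mul_assoc])⟩
  have hirr : IsIrrCharacter Q (fun r => (θ₀ : Q → ℂ) (e r)) := isIrrCharacter_comp e hsurj θ₀.2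
  show (θ₀ : Q → ℂ) (e ⟨y, hy⟩) = 0
  have hne : (θ₀ : Q → ℂ) (e ⟨c, hcQ⟩) ≠ (θ₀ : Q → ℂ) 1 := by
    intro h
    apply hθ₀
    let K := kerSubgroup (IsIrr.isCharacter θ₀.2)
    have hz : Subgroup.zpowers (e ⟨c, hcQ⟩) ≤ K := Subgroup.zpowers_le.2 h
    have hle : Subgroup.zpowers (g * c * g⁻¹) ≤ Subgroup.zpowers c :=
      Subgroup.zpowers_le.2 (hcn.conj_mem c (Subgroup.mem_zpowers c) g)
    have heq : Subgroup.zpowers (g * c * g⁻¹) = Subgroup.zpowers c :=
      Subgroup.eq_of_le_of_card_ge hle (le_of_eq (by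
        rw [Nat.card_zpowers, Nat.card_zpowers, ← MulAut.conj_apply, MulEquiv.orderOf_eq]))
    obtain ⟨i, hi⟩ := Subgroup.mem_zpowers_iff.1
      (show c ∈ Subgroup.zpowers (g * c * g⁻¹) by rw [heq]; exact Subgroup.mem_zpowers c)
    exact mem_kerSubgroup (IsIrr.isCharacter θ₀.2) |>.1
      (hz ⟨i, Subtype.ext (by simpa [e] using hi)⟩)
  have hconj : (θ₀ : Q → ℂ) (e (⟨y, hy⟩ * ⟨c, hcQ⟩)) = (θ₀ : Q → ℂ) (e ⟨y, hy⟩) := by
    have h2 := isClassFunction_of_isIrr hirr (⟨y, hy⟩ : Q) ⟨q, hq⟩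
    refine Eq.trans (congrArg (fun r => (θ₀ : Q → ℂ) (e r)) (Subtype.ext ?_)) h2
    show y * c = q * y * q⁻¹
    rw [← hcen y hy, hc, inv_mul_cancel_right]
  have h3 := apply_mul_central hirr (z := ⟨c, hcQ⟩)
    (Subgroup.mem_center_iff.2 fun r => Subtype.ext (hcen r r.2).symm) ⟨y, hy⟩
  simp only [hconj, map_one] at h3
  exact by_contra fun h0 => hne (mul_right_cancel₀ h0 h3).symm

/-- Elements of an abelian `p`-section centralizing `N` are trivial when the `p`-core is trivial. -/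
theorem faithful_of_pCore_eq_bot {p : ℕ} [hp : Fact p.Prime] (hO : Cfsg.pCore p G = ⊥)
    (N : Subgroup G) [N.Normal] (Z : Subgroup (G ⧸ N)) [Z.Normal] (hZ : IsPGroup p Z)
    (g : G) (hg : (g : G ⧸ N) ∈ Z) (hgn : ∀ n ∈ N, g * n = n * g) : (g : G ⧸ N) = 1 := by
  let C : Subgroup G := Z.comap (QuotientGroup.mk' N) ⊓ Subgroup.centralizer (N : Set G)
  have hCn : C.Normal := by
    have := (inferInstance : Z.Normal).comap (QuotientGroup.mk' N)
    infer_instance
  have hgC : g ∈ C := ⟨hg, Subgroup.mem_centralizer_iff.2 fun n hn => (hgn n hn).symm⟩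
  let f : C →* Z := ((QuotientGroup.mk' N).comp C.subtype).codRestrict Z fun x => x.2.1
  have hker : f.ker ≤ Subgroup.center C := by
    intro x hx
    have h1 : (x : G) ∈ N := (QuotientGroup.eq_one_iff _).1 (congrArg Subtype.val hx)
    rw [Subgroup.mem_center_iff]
    exact fun y => Subtype.ext (Subgroup.mem_centralizer_iff.1 y.2.2 _ h1).symm
  have : Group.IsNilpotent Z := hZ.isNilpotent
  have hnil : Group.IsNilpotent C := Subgroup.isNilpotent_of_ker_le_center f hker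
  obtain ⟨P⟩ : Nonempty (Sylow p C) := inferInstance
  have hPn : (P : Subgroup C).Normal :=
    (((Group.isNilpotent_of_finite_tfae (G := C)).out 0 3 rfl rfl).mp hnil :
      ∀ (r : ℕ) (_ : Fact r.Prime) (P : Sylow r C), (P : Subgroup C).Normal) p ‹_› P
  have hPc := Sylow.characteristic_of_normal P hPn
  have hMn : ((P : Subgroup C).map C.subtype).Normal := ConjAct.normal_of_characteristic_of_normal
  have hM : (P : Subgroup C).map C.subtype ≤ ⊥ := hO ▸ Core.le_pCore (P.isPGroup'.map _)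
  have hPbot : (P : Subgroup C) = ⊥ := by
    rwa [le_bot_iff, Subgroup.map_eq_bot_iff_of_injective _ C.subtype_injective] at hM
  have hnd : ¬ p ∣ Nat.card C := fun h => by
    have h1 := P.dvd_card_of_dvd_card h
    rw [hPbot, Subgroup.card_bot] at h1
    exact hp.out.not_dvd_one h1
  obtain ⟨k, hk⟩ := IsPGroup.iff_orderOf.1 hZ (f ⟨g, hgC⟩)
  have h2 := (orderOf_map_dvd f ⟨g, hgC⟩).trans (orderOf_dvd_natCard (⟨g, hgC⟩ : C))
  rw [hk] at h2
  rcases Nat.eq_zero_or_pos k with rfl | hk0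
  · rw [pow_zero, orderOf_eq_one_iff] at hk
    exact congrArg Subtype.val hk
  · exact absurd ((dvd_pow_self p hk0.ne').trans h2) hnd

end Cfsg.Agent.VanPSing
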